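import Groth.Agent.MLHensLib.Idem
import Groth.Agent.ProjLib.ML
import Mathlib.Algebra.DirectSum.Module
import Mathlib.RingTheory.Finiteness.Cardinality

/-!
# Countably generated Mittag-Leffler modules over henselian local rings
-/

set_option autoImplicit false
set_option linter.style.haveILetI false

universe u

open TensorProduct LinearMap

noncomputable section

namespace MLHensLib

variable {R : Type u} [CommRing R] {M : Type u} [AddCommGroup M] [Module R M]

/-- A finitely presented module with a map to `M`. -/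
structure Stage (R : Type u) [CommRing R] (M : Type u) [AddCommGroup M] [Module R M] where
  carrier : Type u
  [grp : AddCommGroup carrier]
  [mod : Module R carrier]
  fp : Module.FinitePresentation R carrier
  map : carrier →ₗ[R] M

attribute [instance] Stage.grp Stage.mod Stage.fp

theorem exists_next (hML : CAlg.IsMittagLeffler R M) (A : Stage R M) (m : M) :
    ∃ B : Stage R M, ∃ g : A.carrier →ₗ[R] B.carrier,
      A.map = B.map ∘ₗ g ∧ ProjLib.Dom A.map g ∧ m ∈ LinearMap.range B.map := by
  obtain ⟨Q, _, _, g, h, hQ, hf, hdom⟩ :=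
    ProjLib.exists_dom_factor hML (A.map.coprod (LinearMap.toSpanSingleton R M m))
  refine ⟨⟨Q, hQ, h⟩, g ∘ₗ LinearMap.inl R A.carrier R, ?_, ?_, ⟨g (0, 1), ?_⟩⟩
  · ext x
    show A.map x = h (g (x, 0))
    rw [← LinearMap.comp_apply, ← hf]
    simp
  · intro W _ _ x hx
    rw [rTensor_comp, comp_apply]
    apply hdom W
    rw [← comp_apply, ← rTensor_comp]
    convert hx using 3
    ext; simp
  · show h (g (0, 1)) = m
    rw [← LinearMap.comp_apply, ← hf]
    simp

/-- For a countably generated Mittag-Leffler module, a map from a finitely presented module factors through a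
finitely presented module which admits a compatible map back. -/
theorem exists_retraction_factor (hc : CAlg.IsCountablyGenerated R M) (hML : CAlg.IsMittagLeffler R M)
    {P : Type u} [AddCommGroup P] [Module R P] [Module.FinitePresentation R P] (f : P →ₗ[R] M) :
    ∃ (Q : Type u) (_ : AddCommGroup Q) (_ : Module R Q) (g : P →ₗ[R] Q) (h : Q →ₗ[R] M) (φ : M →ₗ[R] Q),
      Module.FinitePresentation R Q ∧ h ∘ₗ g = f ∧ φ ∘ₗ f = g := by
  classical
  obtain ⟨s, hs, hspan⟩ := hc
  obtain ⟨σ, hσ⟩ := (hs.insert (0 : M)).exists_eq_range (Set.insert_nonempty _ _)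
  choose nx g hg hdom hmem using exists_next hML
  let S : ℕ → Stage R M := fun n =>
    Nat.rec (motive := fun _ => Stage R M) ⟨P, inferInstance, f⟩ (fun k A => nx A (σ k)) n
  let t : ∀ n : ℕ, (S n).carrier →ₗ[R] (S (n + 1)).carrier := fun n => g (S n) (σ n)
  have ht : ∀ n, (S n).map = (S (n + 1)).map ∘ₗ t n := fun n => hg _ _
  have hd : ∀ n, ProjLib.Dom (S n).map (t n) := fun n => hdom _ _
  have hl : ∀ n, ∃ l : (S (n + 2)).carrier →ₗ[R] (S (n + 1)).carrier, t n = l ∘ₗ (t (n + 1) ∘ₗ t n) := fun n => by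
    haveI : Module.FinitePresentation R ((S (n + 2)).carrier ⧸ LinearMap.range (t (n + 1) ∘ₗ t n)) :=
      Module.finitePresentation_of_surjective _ (Submodule.mkQ_surjective _)
        (by rw [Submodule.ker_mkQ]; exact (by rw [LinearMap.range_eq_map]; exact Module.Finite.fg_top.map _))
    refine ProjLib.Dom.exists_factor fun W _ _ x hx => hd n W x ?_
    rw [ht n, ht (n + 1), LinearMap.comp_assoc, rTensor_comp, comp_apply, hx, map_zero]
  choose l hl using hl
  let k : ∀ n, (S (n + 1)).carrier →ₗ[R] (S 1).carrier := fun n =>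
    Nat.rec (motive := fun n => (S (n + 1)).carrier →ₗ[R] (S 1).carrier) LinearMap.id (fun n kn => kn ∘ₗ l n) n
  let χ : ∀ n, (S n).carrier →ₗ[R] (S 1).carrier := fun n => k n ∘ₗ t n
  have hχ : ∀ n, χ (n + 1) ∘ₗ t n = χ n := fun n => by
    show ((k n ∘ₗ l n) ∘ₗ t (n + 1)) ∘ₗ t n = k n ∘ₗ t n
    conv_rhs => rw [hl n]
    rfl
  have hker : ∀ n x, (S n).map x = 0 → χ n x = 0 := fun n x hx => by
    show k n (t n x) = 0
    rw [LinearMap.mem_ker.1 ((hd n).ker_le (LinearMap.mem_ker.2 hx)), map_zero]
  let G : ℕ → Submodule R (M × (S 1).carrier) := fun n => LinearMap.range ((S n).map.prod (χ n))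
  have hmono : Monotone G := monotone_nat_of_le_succ fun n => by
    rintro _ ⟨x, rfl⟩
    exact ⟨t n x, Prod.ext (LinearMap.congr_fun (ht n).symm x) (LinearMap.congr_fun (hχ n) x)⟩
  have huniq : ∀ z ∈ ⨆ n, G n, z.1 = 0 → z.2 = 0 := fun z hz h0 => by
    obtain ⟨n, x, rfl⟩ := (Submodule.mem_iSup_of_directed _ hmono.directed_le).1 hz
    exact hker n x h0
  have hsurj : ∀ m : M, ∃ z ∈ ⨆ n, G n, z.1 = m := by
    have htop : (⊤ : Submodule R M) ≤ Submodule.map (LinearMap.fst R M (S 1).carrier) (⨆ n, G n) := by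
      rw [← hspan, Submodule.span_le]
      intro m hm
      obtain ⟨n, rfl⟩ : m ∈ Set.range σ := hσ ▸ Set.mem_insert_of_mem _ hm
      obtain ⟨x, hx⟩ := hmem (S n) (σ n)
      exact ⟨_, le_iSup G (n + 1) ⟨x, rfl⟩, hx⟩
    intro m
    obtain ⟨z, hz, rfl⟩ := htop (Submodule.mem_top (x := m))
    exact ⟨z, hz, rfl⟩
  choose z hz hz1 using hsurj
  have hval : ∀ w ∈ ⨆ n, G n, w.2 = (z w.1).2 := fun w hw =>
    sub_eq_zero.1 (huniq _ (sub_mem hw (hz w.1)) (by rw [Prod.fst_sub, hz1, sub_self]))
  let φ : M →ₗ[R] (S 1).carrier :=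
    { toFun := fun m => (z m).2
      map_add' := fun a b => by
        have := hval _ (add_mem (hz a) (hz b))
        rw [Prod.fst_add, hz1, hz1] at this
        exact this.symm
      map_smul' := fun c a => by
        have := hval _ (Submodule.smul_mem _ c (hz a))
        rw [Prod.smul_fst, hz1] at this
        exact this.symm }
  refine ⟨(S 1).carrier, inferInstance, inferInstance, t 0, (S 1).map, φ, inferInstance, (ht 0).symm, ?_⟩
  ext x
  exact (hval _ (le_iSup G 0 ⟨x, rfl⟩)).symm

/-- Over a henselian local ring every finite family in a countably generated Mittag-Leffler module lies in a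
finitely presented direct summand. -/
theorem exists_fp_summand [HenselianLocalRing R] (hc : CAlg.IsCountablyGenerated R M)
    (hML : CAlg.IsMittagLeffler R M) {n : ℕ} (x : Fin n → M) :
    ∃ (P : Type u) (_ : AddCommGroup P) (_ : Module R P) (s : P →ₗ[R] M) (r : M →ₗ[R] P),
      Module.FinitePresentation R P ∧ r ∘ₗ s = LinearMap.id ∧ ∀ i, x i ∈ LinearMap.range s := by
  let f : (Fin n → R) →ₗ[R] M := Fintype.linearCombination R x
  obtain ⟨Q, _, _, g, h, φ, hQ, hhg, hφ⟩ := exists_retraction_factor hc hML f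
  obtain ⟨e, c, hee, hece, hfix⟩ := exists_split (φ ∘ₗ h)
  have hP : Module.FinitePresentation R (LinearMap.range e) := by
    refine Module.finitePresentation_of_surjective e.rangeRestrict e.surjective_rangeRestrict ?_
    rw [LinearMap.ker_rangeRestrict, show LinearMap.ker e = LinearMap.range (LinearMap.id - e) from ?_]
    · exact (by rw [LinearMap.range_eq_map]; exact Module.Finite.fg_top.map _)
    · ext q
      constructor
      · intro hq
        exact ⟨q, by simp [LinearMap.mem_ker.1 hq]⟩
      · rintro ⟨q, rfl⟩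
        simp [← LinearMap.comp_apply e e, hee]
  refine ⟨LinearMap.range e, inferInstance, inferInstance, h ∘ₗ (LinearMap.range e).subtype,
    e.rangeRestrict ∘ₗ c ∘ₗ φ, hP, ?_, fun i => ?_⟩
  · refine LinearMap.ext fun ⟨_, q, rfl⟩ => Subtype.ext ?_
    exact LinearMap.congr_fun hece q
  · classical
    refine ⟨⟨g (Pi.single i 1), ⟨g (Pi.single i 1), hfix _ ?_⟩⟩, ?_⟩
    · rw [LinearMap.comp_apply, ← LinearMap.comp_apply h g, hhg, ← LinearMap.comp_apply φ f, hφ]
    · show h (g (Pi.single i 1)) = x i
      rw [← LinearMap.comp_apply h g, hhg]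
      simp [f, Fintype.linearCombination_apply_single]

end MLHensLib
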