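import Groth.Agent.HenselLib.Criteria
import Mathlib.RingTheory.Artinian.Module
import Mathlib.RingTheory.Artinian.Ring

/-!
# Splitting off the invertible part of an endomorphism over a henselian local ring
-/

set_option autoImplicit false
set_option linter.style.haveILetI false

universe u

open IsLocalRing Polynomial

noncomputable section

namespace MLHensLib

/-- An element of an artinian ring has an idempotent separating its invertible from its nilpotent part. -/
theorem exists_idem_artinian {B : Type u} [CommRing B] [IsArtinianRing B] (a : B) :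
    ∃ e : B, IsIdempotentElem e ∧ IsUnit (e * a + (1 - e)) ∧ IsNilpotent ((1 - e) * a) := by
  obtain ⟨n, y, hy⟩ := IsArtinian.exists_pow_succ_smul_dvd a (1 : B)
  simp only [smul_eq_mul, mul_one] at hy
  have h1 : a ^ (n + 1) = a ^ (n + 2) * y := by
    rw [pow_succ' a n, pow_succ' a (n + 1), mul_assoc, hy]
  have h2 : ∀ j, a ^ (n + 1) = a ^ (n + 1 + j) * y ^ j := by
    intro j
    induction j with
    | zero => simp
    | succ j ih =>
      calc a ^ (n + 1) = a ^ (n + 1 + j) * y ^ j := ih
        _ = a ^ j * a ^ (n + 1) * y ^ j := by ring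
        _ = a ^ j * (a ^ (n + 2) * y) * y ^ j := by rw [← h1]
        _ = a ^ (n + 1 + (j + 1)) * y ^ (j + 1) := by ring
  let e := a ^ (n + 1) * y ^ (n + 1)
  have he : IsIdempotentElem e := by
    show a ^ (n + 1) * y ^ (n + 1) * (a ^ (n + 1) * y ^ (n + 1)) = _
    calc _ = a ^ (n + 1 + (n + 1)) * y ^ (n + 1) * y ^ (n + 1) := by ring
      _ = _ := by rw [← h2]
  refine ⟨e, he, IsUnit.of_mul_eq_one (e * (a ^ n * y ^ (n + 1)) + (1 - e)) ?_, ⟨n + 1, ?_⟩⟩
  · have h3 : a * (a ^ n * y ^ (n + 1)) = e := by simp only [e]; ring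
    have key : ∀ e' z : B, a * z = e' → e' * e' = e' → (e' * a + (1 - e')) * (e' * z + (1 - e')) = 1 :=
      fun e' z hz he' => by linear_combination (e' * e') * hz + (e' + 2 - a - z) * he'
    exact key e _ h3 he.eq
  · rw [mul_pow, he.one_sub.pow_succ_eq, sub_mul, one_mul, sub_eq_zero]
    calc a ^ (n + 1) = a ^ (n + 1 + (n + 1)) * y ^ (n + 1) := h2 _
      _ = e * a ^ (n + 1) := by simp only [e]; ring

variable {R : Type u} [CommRing R] [HenselianLocalRing R] {Q : Type u} [AddCommGroup Q] [Module R Q]
  [Module.Finite R Q]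

/-- An idempotent commuting with `ψ`, on whose image `ψ` is invertible, fixing the fixed points of `ψ`. -/
theorem exists_split (ψ : Q →ₗ[R] Q) :
    ∃ e c : Q →ₗ[R] Q, e ∘ₗ e = e ∧ e ∘ₗ c ∘ₗ ψ ∘ₗ e = e ∧ ∀ q, ψ q = q → e q = q := by
  let A := Algebra.adjoin R {ψ}
  letI : CommRing A := { Subalgebra.toRing A with
    mul_comm := fun a b => by
      have := Algebra.commute_of_mem_adjoin_of_forall_mem_commute (a := (b : Module.End R Q)) a.2 fun x hx => ?_
      · exact Subtype.ext this.symm.eq
      · rw [Set.mem_singleton_iff] at hx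
        subst hx
        exact (Algebra.commute_of_mem_adjoin_of_forall_mem_commute (a := x) b.2 fun y hy => by
          rw [Set.mem_singleton_iff] at hy; rw [hy]; exact Commute.refl _).symm }
  haveI : Module.Finite R A := ⟨(Submodule.fg_top _).2
    (IsIntegral.fg_adjoin_singleton (Algebra.IsIntegral.isIntegral ψ))⟩
  haveI : HenselianRing R (maximalIdeal R) := inferInstance
  let I := (maximalIdeal R).map (algebraMap R A)
  let B := A ⧸ I
  letI : Algebra (ResidueField R) B := (Ideal.Quotient.lift (maximalIdeal R)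
    ((Ideal.Quotient.mk I).comp (algebraMap R A))
    (fun x hx => Ideal.Quotient.eq_zero_iff_mem.2 (Ideal.mem_map_of_mem _ hx))).toAlgebra
  haveI : IsScalarTower R (ResidueField R) B := IsScalarTower.of_algebraMap_eq fun x => rfl
  haveI : Module.Finite (ResidueField R) B := Module.Finite.of_restrictScalars_finite R (ResidueField R) B
  haveI : IsArtinianRing B := IsArtinianRing.of_finite (ResidueField R) B
  let a : A := ⟨ψ, Algebra.self_mem_adjoin_singleton R ψ⟩
  obtain ⟨ē, hē, hu, hn⟩ := exists_idem_artinian (Ideal.Quotient.mk I a)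
  obtain ⟨b, rfl⟩ := Ideal.Quotient.mk_surjective ē
  obtain ⟨e, he, heb⟩ := HenselLib.exists_idempotent_lift (I := maximalIdeal R) b
    (Ideal.Quotient.eq.1 (by rw [map_mul]; exact hē.eq))
  have hjac : I ≤ Ideal.jacobson ⊥ := HenselLib.map_le_jacobson_bot (HenselianRing.jac (I := maximalIdeal R))
  haveI : IsLocalHom (Ideal.Quotient.mk I) := isLocalHom_of_le_jacobson_bot I hjac
  have heb' : Ideal.Quotient.mk I e = Ideal.Quotient.mk I b := Ideal.Quotient.eq.2 heb
  have hu' : IsUnit (e * a + (1 - e)) := by
    apply IsUnit.of_map (Ideal.Quotient.mk I)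
    simpa only [map_add, map_mul, map_sub, map_one, heb'] using hu
  have hv' : IsUnit (1 - (1 - e) * a) := by
    apply IsUnit.of_map (Ideal.Quotient.mk I)
    have := hn.isUnit_one_sub
    simpa only [map_mul, map_sub, map_one, heb'] using this
  obtain ⟨c, hc⟩ := hu'.exists_left_inv
  obtain ⟨d, hd⟩ := hv'.exists_left_inv
  have h1 : e * c * a * e = e := by
    linear_combination e * hc + c * he.eq
  have h2 : (1 - e) = d * (1 - e) * (1 - a) := by
    linear_combination -(1 - e) * hd - (d * a) * he.eq
  refine ⟨(e : Module.End R Q), (c : Module.End R Q), congrArg Subtype.val he.eq, ?_, fun q hq => ?_⟩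
  · have := congrArg Subtype.val h1
    simp only [Subalgebra.coe_mul, mul_assoc] at this
    exact this
  · have := LinearMap.congr_fun (congrArg Subtype.val h2) q
    simp only [Subalgebra.coe_sub, Subalgebra.coe_mul, Subalgebra.coe_one, LinearMap.sub_apply, Module.End.one_apply,
      Module.End.mul_apply] at this
    rw [show (a : Module.End R Q) q = q from hq, sub_self, map_zero, sub_self, map_zero] at this
    exact (sub_eq_zero.1 this).symm

end MLHensLib
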