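import Groth.Agent.MLHensLib.Decomp
import Mathlib.RingTheory.Ideal.AssociatedPrime.Basic
import Mathlib.RingTheory.Nakayama
import Mathlib.RingTheory.Finiteness.Nakayama

/-!
# Consequences: direct sum decomposition, associated primes
-/

set_option autoImplicit false
set_option linter.style.haveILetI false

universe u

open TensorProduct LinearMap IsLocalRing

noncomputable section

namespace MLHensLib

variable {R : Type u} [CommRing R] [HenselianLocalRing R] {M : Type u} [AddCommGroup M] [Module R M]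

theorem exists_next_idem (hc : CAlg.IsCountablyGenerated R M) (hML : CAlg.IsMittagLeffler R M)
    (π : M →ₗ[R] M) (hπ : π ∘ₗ π = π) (m : M) :
    ∃ p : M →ₗ[R] M, p ∘ₗ p = p ∧ π ∘ₗ p = p ∧ p ∘ₗ π = p ∧ p (π m) = π m ∧
      Module.FinitePresentation R (LinearMap.range p) := by
  let K := LinearMap.range π
  have hid : π.rangeRestrict ∘ₗ K.subtype = LinearMap.id :=
    LinearMap.ext fun ⟨_, q, rfl⟩ => Subtype.ext (LinearMap.congr_fun hπ q)
  obtain ⟨σ, hσ, hspan⟩ := hc
  have hcK : CAlg.IsCountablyGenerated R K := ⟨π.rangeRestrict '' σ, hσ.image _, by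
    rw [Submodule.span_image, hspan, Submodule.map_top, LinearMap.range_rangeRestrict]⟩
  have hMLK : CAlg.IsMittagLeffler R K := ProjLib.IsMittagLeffler.of_retract hML K.subtype π.rangeRestrict hid
  obtain ⟨P, _, _, s, r, hP, hrs, hmem⟩ := exists_fp_summand hcK hMLK ![π.rangeRestrict m]
  have hrs' : ∀ x, r (s x) = x := LinearMap.congr_fun hrs
  have hid' : ∀ k : K, π.rangeRestrict (k : M) = k := LinearMap.congr_fun hid
  let p : M →ₗ[R] M := K.subtype ∘ₗ s ∘ₗ r ∘ₗ π.rangeRestrict
  have hrange : LinearMap.range p = LinearMap.range (K.subtype ∘ₗ s) := by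
    refine le_antisymm ?_ ?_
    · rintro _ ⟨x, rfl⟩
      exact ⟨r (π.rangeRestrict x), rfl⟩
    · rintro _ ⟨y, rfl⟩
      refine ⟨(s y : M), ?_⟩
      simp [p, hid', hrs']
  have hinj : Function.Injective (K.subtype ∘ₗ s) := fun a b h => by
    rw [← hrs' a, ← hrs' b, Subtype.coe_injective h]
  refine ⟨p, LinearMap.ext fun x => ?_, LinearMap.ext fun x => ?_, LinearMap.ext fun x => ?_, ?_, ?_⟩
  · simp [p, hid', hrs']
  · exact congrArg Subtype.val (hid' (s (r (π.rangeRestrict x))))
  · simp only [p, LinearMap.comp_apply]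
    congr 3
    exact Subtype.ext (LinearMap.congr_fun hπ x)
  · obtain ⟨y, hy⟩ := hmem 0
    have hy' : s y = π.rangeRestrict m := hy
    simp only [p, LinearMap.comp_apply]
    rw [show π.rangeRestrict (π m) = π.rangeRestrict m from Subtype.ext (LinearMap.congr_fun hπ m), ← hy', hrs', hy']
    rfl
  · rw [hrange]
    exact Module.FinitePresentation.of_equiv (LinearEquiv.ofInjective _ hinj)

open scoped Classical in
theorem exists_isInternal (hc : CAlg.IsCountablyGenerated R M) (hML : CAlg.IsMittagLeffler R M) :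
    ∃ (ι : Type u) (N : ι → Submodule R M), DirectSum.IsInternal N ∧
      ∀ i, Module.FinitePresentation R (N i) := by
  classical
  obtain ⟨s, hs, hspan⟩ := hc
  obtain ⟨σ, hσ⟩ := (hs.insert (0 : M)).exists_eq_range (Set.insert_nonempty _ _)
  choose q hqq hπq hqπ hqm hfp using exists_next_idem ⟨s, hs, hspan⟩ hML
  let Idem := {π : M →ₗ[R] M // π ∘ₗ π = π}
  let next : Idem → M → Idem := fun π m => ⟨π.1 - q π.1 π.2 m, by
    rw [LinearMap.sub_comp, LinearMap.comp_sub, LinearMap.comp_sub, π.2, hπq, hqπ, hqq, sub_self, sub_zero]⟩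
  let π : ℕ → Idem := fun n =>
    Nat.rec (motive := fun _ => Idem) ⟨LinearMap.id, rfl⟩ (fun k π => next π (σ k)) n
  let p : ℕ → M →ₗ[R] M := fun n => q (π n).1 (π n).2 (σ n)
  have hsucc : ∀ n x, (π (n + 1)).1 x = (π n).1 x - p n x := fun n x => rfl
  have hpp : ∀ n x, p n (p n x) = p n x := fun n => LinearMap.congr_fun (hqq _ (π n).2 _)
  have hπp : ∀ n x, (π n).1 (p n x) = p n x := fun n => LinearMap.congr_fun (hπq _ (π n).2 _)
  have hpπ : ∀ n x, p n ((π n).1 x) = p n x := fun n => LinearMap.congr_fun (hqπ _ (π n).2 _)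
  have hsum : ∀ n x, x = ∑ i ∈ Finset.range n, p i x + (π n).1 x := by
    intro n x
    induction n with
    | zero => simp [π]
    | succ n ih =>
      rw [Finset.sum_range_succ, hsucc, add_assoc, add_sub_cancel, ← ih]
  -- later projections kill earlier summands and conversely
  have hkill : ∀ i j, i < j → ∀ x, (π j).1 (p i x) = 0 ∧ p i ((π j).1 x) = 0 := by
    intro i j hij
    induction hij with
    | refl => intro x; rw [hsucc, hsucc, hπp, hpp, sub_self, map_sub, hpπ, hpp, sub_self]; exact ⟨rfl, rfl⟩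
    | @step m _ ih =>
      intro x
      rw [hsucc, hsucc, map_sub, (ih x).1, (ih x).2, ← hpπ m (p i x), (ih x).1, map_zero, ← hπp m x,
        (ih (p m x)).2, sub_zero]
      exact ⟨rfl, rfl⟩
  have horth : ∀ i j, i ≠ j → ∀ x, p i (p j x) = 0 := by
    intro i j hne x
    rcases lt_or_gt_of_ne hne with h | h
    · rw [← hπp j x, (hkill i j h _).2]
    · rw [← hpπ i (p j x), (hkill j i h x).1, map_zero]
  refine ⟨ULift.{u} ℕ, fun n => LinearMap.range (p n.down), ?_, fun n => hfp _ (π n.down).2 _⟩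
  suffices h : iSupIndep (fun n : ULift.{u} ℕ => LinearMap.range (p n.down)) ∧
      (⨆ n : ULift.{u} ℕ, LinearMap.range (p n.down)) = ⊤ by
    convert DirectSum.isInternal_submodule_of_iSupIndep_of_iSup_eq_top h.1 h.2
  constructor
  · intro n
    rw [Submodule.disjoint_def]
    rintro _ ⟨x, rfl⟩ hx
    have hle : (⨆ j, ⨆ (_ : j ≠ n), LinearMap.range (p j.down)) ≤ LinearMap.ker (p n.down) :=
      iSup₂_le fun j hj => by
        rintro _ ⟨y, rfl⟩
        exact horth _ _ (fun h => hj (ULift.down_injective h.symm)) y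
    have := hle hx
    rwa [LinearMap.mem_ker, hpp] at this
  · rw [eq_top_iff, ← hspan, Submodule.span_le]
    intro m hm
    obtain ⟨n, rfl⟩ : m ∈ Set.range σ := hσ ▸ Set.mem_insert_of_mem _ hm
    have h0 : (π (n + 1)).1 (σ n) = 0 := by
      rw [hsucc, ← hpπ]
      exact sub_eq_zero.2 (hqm _ (π n).2 _).symm
    have := hsum (n + 1) (σ n)
    rw [h0, add_zero] at this
    rw [SetLike.mem_coe, this]
    exact Submodule.sum_mem _ fun i _ => Submodule.mem_iSup_of_mem ⟨i⟩ ⟨_, rfl⟩

variable {S : Type u} [CommRing S] [Algebra R S] (N : Type u) [AddCommGroup N] [Module S N] [Module R N]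
  [IsScalarTower R S N]

/-- Associated primes of `N ⊗ M` meet the closed fibre. -/
theorem assoc_sup_ne_top (hcg : CAlg.IsCountablyGenerated R N) (hML : CAlg.IsMittagLeffler R N)
    (Q : Type u) [AddCommGroup Q] [Module R Q] (q : Ideal S) [q.IsPrime]
    (hq : q ∈ associatedPrimes S (N ⊗[R] Q)) : q ⊔ (maximalIdeal R).map (algebraMap R S) ≠ ⊤ := by
  classical
  intro htop
  obtain ⟨-, z, hz⟩ := hq
  refine Ideal.IsPrime.ne_top ‹q.IsPrime› ?_
  suffices h0 : z = 0 by
    rw [hz, h0, Ideal.eq_top_iff_one]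
    exact Ideal.le_radical (Submodule.mem_colon_singleton.2 (by simp))
  obtain ⟨t, ht⟩ := TensorProduct.exists_finset z
  obtain ⟨P, _, _, s, r, hP, hrs, hmem⟩ :=
    exists_fp_summand hcg hML fun i => ((t.equivFin.symm i).1).1
  have hrs' : ∀ x, r (s x) = x := LinearMap.congr_fun hrs
  -- an element of the extended maximal ideal fixing `z`
  have hcop : IsCoprime q ((maximalIdeal R).map (algebraMap R S)) := Ideal.isCoprime_iff_sup_eq.2 htop
  obtain ⟨g, hg, hgz⟩ : ∃ g ∈ (maximalIdeal R).map (algebraMap R S), g • z = z := by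
    obtain ⟨a, ha, g, hg, hag⟩ := Ideal.isCoprime_iff_exists.1 hcop
    rw [hz] at ha
    obtain ⟨k, hk⟩ := ha
    have : (1 - g) ^ k • z = 0 := by
      rw [show 1 - g = a by rw [← hag]; ring]
      simpa using Submodule.mem_colon_singleton.1 hk
    refine ⟨1 - (1 - g) ^ k, ?_, by rw [sub_smul, one_smul, this, sub_zero]⟩
    rw [← Ideal.Quotient.eq_zero_iff_mem, map_sub, map_pow, map_sub, Ideal.Quotient.eq_zero_iff_mem.2 hg]
    simp
  let L : S → N →ₗ[R] N := fun a => (LinearMap.lsmul S N a).restrictScalars R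
  have hL : ∀ w : N ⊗[R] Q, (L g).rTensor Q w = g • w := fun w => by
    induction w using TensorProduct.induction_on with
    | zero => simp
    | tmul n x => rw [LinearMap.rTensor_tmul, TensorProduct.smul_tmul']; rfl
    | add a b ha hb => rw [map_add, smul_add, ha, hb]
  have hLz : (L g).rTensor Q z = z := (hL z).trans hgz
  let ψ : P →ₗ[R] P := r ∘ₗ L g ∘ₗ s
  have hψ : ∀ x, ψ x ∈ maximalIdeal R • (⊤ : Submodule R P) := by
    intro x
    have hgn : ∀ n : N, g • n ∈ maximalIdeal R • (⊤ : Submodule R N) := by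
      refine Submodule.span_induction (p := fun a _ => ∀ n : N, a • n ∈ maximalIdeal R • (⊤ : Submodule R N))
        ?_ ?_ ?_ ?_ hg
      · rintro _ ⟨a, ha, rfl⟩ n
        rw [algebraMap_smul]
        exact Submodule.smul_mem_smul ha trivial
      · intro n; rw [zero_smul]; exact Submodule.zero_mem _
      · intro a b _ _ ha hb n; rw [add_smul]; exact add_mem (ha n) (hb n)
      · intro c a _ ha n; rw [smul_eq_mul, mul_comm, mul_smul]; exact ha _
    show r (g • s x) ∈ _
    exact Submodule.smul_top_le_comap_smul_top (maximalIdeal R) r (hgn (s x))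
  have hzy : s.rTensor Q (r.rTensor Q z) = z := by
    rw [ht, map_sum, map_sum]
    refine Finset.sum_congr rfl fun i hi => ?_
    obtain ⟨p, hp⟩ := hmem (t.equivFin ⟨i, hi⟩)
    simp only [Equiv.symm_apply_apply] at hp
    rw [rTensor_tmul, rTensor_tmul, ← hp, hrs']
  have hsurj : Function.Surjective ((LinearMap.id : P →ₗ[R] P) - ψ) := by
    rw [← LinearMap.range_eq_top]
    refine top_le_iff.1 (Submodule.le_of_le_smul_of_le_jacobson_bot Module.Finite.fg_top
      (IsLocalRing.maximalIdeal_le_jacobson ⊥) fun x _ => ?_)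
    exact Submodule.mem_sup.2 ⟨x - ψ x, ⟨x, rfl⟩, ψ x, hψ x, sub_add_cancel _ _⟩
  have hbij : Function.Bijective (LinearMap.id - ψ : P →ₗ[R] P) :=
    ⟨OrzechProperty.injective_of_surjective_endomorphism _ hsurj, hsurj⟩
  have hy : r.rTensor Q z = 0 := by
    refine ((LinearEquiv.ofBijective _ hbij).rTensor Q).injective ?_
    rw [map_zero]
    show (LinearMap.id - ψ).rTensor Q (r.rTensor Q z) = 0
    rw [LinearMap.rTensor_sub, LinearMap.sub_apply, LinearMap.rTensor_id_apply, LinearMap.rTensor_comp,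
      LinearMap.rTensor_comp, LinearMap.comp_apply, LinearMap.comp_apply, hzy, hLz, sub_self]
  rw [← hzy, hy, map_zero]

end MLHensLib
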